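import Mathlib

/-!
Laws in groups: a word `w` of the free group is a law of `G` if every substitution gives `1`.
-/

set_option autoImplicit false

namespace CfsgLib.Law

open Polynomial Matrix
open scoped commutatorElement

/-- `w` is a law in `G`. -/
def IsLaw {α : Type*} (w : FreeGroup α) (G : Type*) [Group G] : Prop :=
  ∀ f : α → G, FreeGroup.lift f w = 1

theorem map_lift {α G H : Type*} [Group G] [Group H] (φ : G →* H) (f : α → G) (w : FreeGroup α) :
    φ (FreeGroup.lift f w) = FreeGroup.lift (fun a => φ (f a)) w := by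
  have : φ.comp (FreeGroup.lift f) = FreeGroup.lift (fun a => φ (f a)) := by
    ext a; simp
  exact DFunLike.congr_fun this w

theorem IsLaw.of_injective {α G H : Type*} [Group G] [Group H] {w : FreeGroup α}
    (h : IsLaw w H) (φ : G →* H) (hφ : Function.Injective φ) : IsLaw w G := by
  intro f
  apply hφ
  rw [map_lift, map_one]
  exact h _

theorem IsLaw.of_surjective {α G H : Type*} [Group G] [Group H] {w : FreeGroup α}
    (h : IsLaw w G) (φ : G →* H) (hφ : Function.Surjective φ) : IsLaw w H := by
  intro f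
  choose g hg using hφ
  have := map_lift φ (fun a => g (f a)) w
  rw [h, map_one] at this
  simp only [hg] at this
  exact this.symm

theorem IsLaw.subst {α β G : Type*} [Group G] {w : FreeGroup α} (h : IsLaw w G)
    (σ : α → FreeGroup β) : IsLaw (FreeGroup.lift σ w) G := by
  intro f
  rw [map_lift]
  exact h _

/-- the word `[w(x₁,x₂,…), x₀]`. -/
def commWord (w : FreeGroup ℕ) : FreeGroup ℕ :=
  ⁅FreeGroup.lift (fun i => FreeGroup.of (i + 1)) w, FreeGroup.of 0⁆

theorem commWord_ne_one {w : FreeGroup ℕ} (hw : w ≠ 1) : commWord w ≠ 1 := by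
  classical
  intro h
  obtain ⟨x, hx⟩ := Infinite.exists_notMem_finset ({1, w} : Finset (FreeGroup ℕ))
  simp only [Finset.mem_insert, Finset.mem_singleton, not_or] at hx
  let L : FreeGroup ℕ →* Equiv.Perm (FreeGroup ℕ) := MulAction.toPermHom (FreeGroup ℕ) (FreeGroup ℕ)
  let f : ℕ → Equiv.Perm (FreeGroup ℕ) := fun i =>
    Nat.casesOn i (Equiv.swap 1 x) (fun j => L (FreeGroup.of j))
  have h1 := congrArg (FreeGroup.lift f) h
  rw [commWord, map_commutatorElement, map_one, map_lift] at h1
  have h2 : FreeGroup.lift (fun a => FreeGroup.lift f (FreeGroup.of (a + 1))) w = L w := by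
    have : FreeGroup.lift (fun a => FreeGroup.lift f (FreeGroup.of (a + 1))) = L := by
      ext a : 1; simp [f]
    rw [this]
  rw [h2, commutatorElement_eq_one_iff_mul_comm] at h1
  have h3 := congrArg (fun σ : Equiv.Perm (FreeGroup ℕ) => σ 1) h1
  have h0 : f 0 = Equiv.swap 1 x := rfl
  simp only [FreeGroup.lift_apply_of, h0, Equiv.Perm.mul_apply, Equiv.swap_apply_left, L,
    MulAction.toPermHom_apply, MulAction.toPerm_apply, smul_eq_mul, mul_one] at h3
  rw [Equiv.swap_apply_of_ne_of_ne hw (Ne.symm hx.2)] at h3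
  exact hx.1 (mul_left_cancel (a := w) (by rw [h3, mul_one]))

theorem IsLaw.commWord_of_quotient_center {w : FreeGroup ℕ} {G : Type*} [Group G]
    (h : IsLaw w (G ⧸ Subgroup.center G)) : IsLaw (commWord w) G := by
  intro f
  rw [commWord, map_commutatorElement, commutatorElement_eq_one_iff_mul_comm, map_lift]
  have h1 := map_lift (QuotientGroup.mk' (Subgroup.center G))
    (fun a => FreeGroup.lift f (FreeGroup.of (a + 1))) w
  rw [h, QuotientGroup.mk'_apply, QuotientGroup.eq_one_iff] at h1
  exact (Subgroup.mem_center_iff.mp h1 _).symm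

/-- the two-letter word obtained by `xᵢ ↦ yⁱ z y⁻ⁱ`. -/
def twoWord (w : FreeGroup ℕ) : FreeGroup Bool :=
  FreeGroup.lift (fun i : ℕ => FreeGroup.of true ^ i * FreeGroup.of false * (FreeGroup.of true ^ i)⁻¹) w

theorem twoWord_ne_one {w : FreeGroup ℕ} (hw : w ≠ 1) : twoWord w ≠ 1 := by
  intro h
  let s : MulAut (FreeGroup ℤ) := FreeGroup.freeGroupCongr (Equiv.addRight (1 : ℤ))
  have hs : ∀ (n : ℕ) (a : ℤ), (s ^ n) (FreeGroup.of a) = FreeGroup.of (a + n) := by
    intro n
    induction n with
    | zero => intro a; simp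
    | succ n ih =>
      intro a
      rw [pow_succ, MulAut.mul_apply]
      have : s (FreeGroup.of a) = FreeGroup.of (a + 1) := by simp [s]
      rw [this, ih]; congr 1; push_cast; ring
  let φ : MulAut (FreeGroup ℤ) →* MulAut (FreeGroup ℤ) := MonoidHom.id _
  let f : Bool → (FreeGroup ℤ) ⋊[φ] MulAut (FreeGroup ℤ) := fun b =>
    cond b (SemidirectProduct.inr s) (SemidirectProduct.inl (FreeGroup.of 0))
  have h1 := congrArg (FreeGroup.lift f) h
  rw [twoWord, map_lift, map_one] at h1
  have h2 : FreeGroup.lift (fun i : ℕ => FreeGroup.lift f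
      (FreeGroup.of true ^ i * FreeGroup.of false * (FreeGroup.of true ^ i)⁻¹)) =
      (SemidirectProduct.inl (φ := φ)).comp (FreeGroup.map (fun i : ℕ => (i : ℤ))) := by
    ext a : 1
    simp only [map_mul, map_pow, map_inv, FreeGroup.lift_apply_of, f, cond_true, cond_false,
      MonoidHom.comp_apply, FreeGroup.map.of]
    rw [← map_pow, ← map_inv, ← SemidirectProduct.inl_aut]
    simp [φ, hs]
  rw [h2, MonoidHom.comp_apply, ← (SemidirectProduct.inl (φ := φ)).map_one] at h1
  have h3 := SemidirectProduct.inl_injective h1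
  have h4 : Function.Injective (FreeGroup.map (fun i : ℕ => (i : ℤ))) :=
    FreeGroup.map_injective Nat.cast_injective
  exact hw (h4 (by rw [h3, map_one]))

section Poly

variable {F : Type*} [Field F] {n : Type*} [Fintype n] [DecidableEq n]

theorem prod_coeff (X : Bool × Bool → Matrix n n F[X]) (d : ℕ)
    (hd : ∀ l i j, (X l i j).natDegree ≤ d) (L : List (Bool × Bool)) :
    (∀ i j, ((L.map X).prod i j).natDegree ≤ d * L.length) ∧
    ((L.map X).prod.map (fun p => p.coeff (d * L.length)) =
      (L.map (fun l => (X l).map (fun p => p.coeff d))).prod) := by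
  induction L with
  | nil =>
    constructor
    · intro i j; simp [Matrix.one_apply]; split_ifs <;> simp
    · ext i j; simp [Matrix.one_apply]; split_ifs <;> simp
  | cons l L ih =>
    obtain ⟨ih1, ih2⟩ := ih
    constructor
    · intro i j
      simp only [List.map_cons, List.prod_cons, Matrix.mul_apply, List.length_cons]
      refine natDegree_sum_le_of_forall_le _ _ fun k _ => ?_
      refine natDegree_mul_le.trans ?_
      have := hd l i k; have := ih1 k j
      rw [mul_add, mul_one]; omega
    · ext i j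
      simp only [List.map_cons, List.prod_cons, Matrix.mul_apply, List.length_cons, map_apply,
        finsetSum_coeff, ← ih2]
      refine Finset.sum_congr rfl fun k _ => ?_
      rw [mul_add, mul_one, add_comm, coeff_mul_add_eq_of_natDegree_le (hd l i k) (ih1 k j)]

theorem prod_vecMulVec (a φ : Bool × Bool → n → F) (hφ : ∀ l, φ l ≠ 0)
    (h : ∀ l l' : Bool × Bool, (l.1 = l'.1 → l.2 = l'.2) → φ l ⬝ᵥ a l' ≠ 0)
    (l : Bool × Bool) (L : List (Bool × Bool)) (hL : FreeGroup.IsReduced (l :: L)) :
    ∃ ψ : n → F, ψ ≠ 0 ∧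
      ((l :: L).map (fun l => vecMulVec (a l) (φ l))).prod = vecMulVec (a l) ψ := by
  induction L generalizing l with
  | nil => exact ⟨φ l, hφ l, by simp⟩
  | cons l' L ih =>
    rw [FreeGroup.isReduced_cons_cons] at hL
    obtain ⟨ψ, hψ, e⟩ := ih l' hL.2
    refine ⟨(φ l ⬝ᵥ a l') • ψ, smul_ne_zero (h l l' hL.1) hψ, ?_⟩
    rw [List.map_cons, List.prod_cons, e, vecMulVec_mul_vecMulVec]

/-- Polynomial ping-pong. -/
theorem not_isLaw_two {G : Type*} [Group G] (ρ : G →* Matrix n n F) (top bot : n) (htb : top ≠ bot)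
    (D : ℕ) (e : n → ℕ) (he : ∀ j, e j ≤ 2 * D) (htop : ∀ j, e j = 2 * D ↔ j = top)
    (hbot : ∀ j, e j = 0 ↔ j = bot) (S : Finset F) (δ : F → G)
    (hδ : ∀ t ∈ S, t ^ D • ρ (δ t) = diagonal fun j => t ^ e j)
    (hδ' : ∀ t ∈ S, t ^ D • ρ (δ t)⁻¹ = diagonal fun j => t ^ (2 * D - e j))
    (g : G) (hg : ∀ i j, (i = top ∨ i = bot) → (j = top ∨ j = bot) → ρ g i j ≠ 0 ∧ ρ g⁻¹ i j ≠ 0)
    (w : FreeGroup Bool) (hw : w ≠ 1) (hS : 2 * D * w.toWord.length < S.card) :
    ¬ IsLaw w G := by
  intro hlaw
  have hD : D ≠ 0 := by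
    rintro rfl
    exact htb ((hbot top).mp ((htop top).mpr rfl))
  let dg : Bool → Matrix n n F[X] := fun b =>
    diagonal fun j => X ^ (cond b (e j) (2 * D - e j))
  let Cm : Matrix n n F → Matrix n n F[X] := fun M => M.map C
  let Xm : Bool × Bool → Matrix n n F[X] := fun l =>
    cond l.1 (dg l.2) (Cm (ρ g) * dg l.2 * Cm (ρ g⁻¹))
  let pt : Bool → n := fun b => cond b top bot
  have hdg : ∀ b i j, (dg b i j).natDegree ≤ 2 * D := by
    intro b i j
    simp only [dg, diagonal_apply]
    split_ifs
    · rw [natDegree_X_pow]; cases b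
      · simp
      · exact he i
    · simp
  have hdgc : ∀ b j, (X ^ (cond b (e j) (2 * D - e j)) : F[X]).coeff (2 * D) =
      if j = pt b then 1 else 0 := by
    intro b j
    rw [coeff_X_pow]
    cases b
    · simp only [cond_false, pt, ← hbot]
      have := he j
      by_cases h0 : e j = 0
      · simp [h0]
      · rw [if_neg (by omega), if_neg h0]
    · simp only [cond_true, pt, ← htop, eq_comm]
  have hXe : ∀ b i j, (Cm (ρ g) * dg b * Cm (ρ g⁻¹)) i j =
      ∑ k, C (ρ g i k * ρ g⁻¹ k j) * X ^ (cond b (e k) (2 * D - e k)) := by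
    intro b i j
    simp only [Matrix.mul_apply (M := Cm (ρ g) * dg b), dg, mul_diagonal, Cm, map_apply, map_mul]
    refine Finset.sum_congr rfl fun k _ => by ring
  have hX : ∀ l i j, (Xm l i j).natDegree ≤ 2 * D := by
    rintro ⟨b1, b2⟩ i j
    cases b1
    · simp only [Xm, cond_false, hXe]
      refine natDegree_sum_le_of_forall_le _ _ fun k _ => ?_
      refine (natDegree_C_mul_le _ _).trans ?_
      rw [natDegree_X_pow]; cases b2
      · simp
      · exact he k
    · exact hdg b2 i j
  let a : Bool × Bool → n → F := fun l => cond l.1 (Pi.single (pt l.2) 1) (fun i => ρ g i (pt l.2))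
  let φ : Bool × Bool → n → F := fun l => cond l.1 (Pi.single (pt l.2) 1) (fun j => ρ g⁻¹ (pt l.2) j)
  have hXc : ∀ l, (Xm l).map (fun p => p.coeff (2 * D)) = vecMulVec (a l) (φ l) := by
    rintro ⟨b1, b2⟩
    ext i j
    cases b1
    · simp only [Xm, cond_false, hXe, map_apply, finsetSum_coeff, coeff_C_mul, hdgc, a, φ,
        vecMulVec_apply]
      simp
    · simp only [Xm, cond_true, map_apply, dg, diagonal_apply, a, φ, vecMulVec_apply,
        Pi.single_apply]
      by_cases hij : i = j
      · subst hij; simp only [if_true, hdgc]; split_ifs <;> simp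
      · rw [if_neg hij]
        split_ifs with h1 h2
        · exact absurd (h1.trans h2.symm) hij
        all_goals simp
  have hpt : ∀ b, pt b = top ∨ pt b = bot := by intro b; cases b <;> simp [pt]
  have hptinj : Function.Injective pt := by
    intro b b' h; cases b <;> cases b' <;> simp_all [pt]
  have hφa : ∀ l l' : Bool × Bool, (l.1 = l'.1 → l.2 = l'.2) → φ l ⬝ᵥ a l' ≠ 0 := by
    rintro ⟨b1, b2⟩ ⟨c1, c2⟩ h
    cases b1 <;> cases c1
    · have h' : b2 = c2 := h rfl
      subst h'
      have : (ρ g⁻¹ * ρ g) (pt b2) (pt b2) = 1 := by rw [← map_mul]; simp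
      simp only [φ, a, cond_false]
      rw [Matrix.mul_apply] at this
      rw [dotProduct, this]; exact one_ne_zero
    · simp only [φ, a, cond_false, cond_true, dotProduct_single, mul_one]
      exact (hg _ _ (hpt _) (hpt _)).2
    · simp only [φ, a, cond_false, cond_true, single_dotProduct, one_mul]
      exact (hg _ _ (hpt _) (hpt _)).1
    · have h' : b2 = c2 := h rfl
      subst h'
      simp [φ, a]
  have hφ : ∀ l, φ l ≠ 0 := fun l h => hφa l l (fun _ => rfl) (by rw [h]; simp)
  have ha : ∀ l, a l ≠ 0 := fun l h => hφa l l (fun _ => rfl) (by rw [h]; simp)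
  obtain ⟨l, L, hL⟩ : ∃ l L, w.toWord = l :: L := by
    cases h : w.toWord with
    | nil => exact absurd (FreeGroup.toWord_eq_nil_iff.mp h) hw
    | cons l L => exact ⟨l, L, rfl⟩
  have hred : FreeGroup.IsReduced (l :: L) := hL ▸ FreeGroup.isReduced_toWord
  obtain ⟨ψ, hψ, hprod⟩ := prod_vecMulVec a φ hφ hφa l L hred
  obtain ⟨hdeg, hco⟩ := prod_coeff Xm (2 * D) hX (l :: L)
  simp only [hXc] at hco
  rw [hprod] at hco
  -- evaluation
  have hev : ∀ t ∈ S, ∀ M : List (Bool × Bool),
      ((M.map Xm).prod).map (eval t) = t ^ (D * M.length) •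
        ρ (M.map fun x => cond x.2 (cond x.1 (δ t) (g * δ t * g⁻¹))
          (cond x.1 (δ t) (g * δ t * g⁻¹))⁻¹).prod := by
    intro t ht M
    have hdgt : ∀ b, (dg b).map (eval t) = t ^ D • ρ (cond b (δ t) (δ t)⁻¹) := by
      intro b
      cases b
      · simp only [cond_false, hδ' t ht, dg]
        rw [diagonal_map (by simp)]; simp
      · simp only [cond_true, hδ t ht, dg]
        rw [diagonal_map (by simp)]; simp
    have hCm : ∀ A : Matrix n n F, (Cm A).map (eval t) = A := by
      intro A; ext i j; simp [Cm]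
    have hmul : ∀ A B : Matrix n n F[X], (A * B).map (eval t) = A.map (eval t) * B.map (eval t) :=
      fun A B => Matrix.map_mul (f := evalRingHom t)
    induction M with
    | nil => simp
    | cons x M ih =>
      rw [List.map_cons, List.prod_cons, hmul, ih, List.map_cons, List.prod_cons, map_mul,
        List.length_cons, mul_add, mul_one, add_comm, pow_add, mul_smul, Matrix.mul_smul,
        ← Matrix.mul_smul, ← Matrix.smul_mul]
      obtain ⟨b1, b2⟩ := x
      cases b1 <;> cases b2 <;> simp [Xm, hmul, hdgt, hCm, mul_assoc, smul_smul, mul_comm]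
  have hM : ∀ i j, (((l :: L).map Xm).prod) i j =
      if i = j then X ^ (D * (l :: L).length) else 0 := by
    intro i j
    refine eq_of_natDegree_lt_card_of_eval_eq' _ _ S (fun t ht => ?_) ?_
    · have h1 := congrFun (congrFun (hev t ht (l :: L)) i) j
      have h2 := hlaw (fun b => cond b (δ t) (g * δ t * g⁻¹))
      rw [← FreeGroup.mk_toWord (x := w), FreeGroup.lift_mk, hL] at h2
      rw [h2, map_one] at h1
      rw [map_apply] at h1
      rw [h1, Matrix.smul_apply, Matrix.one_apply]
      split_ifs <;> simp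
    · rw [hL] at hS
      refine max_lt ((hdeg i j).trans_lt hS) (lt_of_le_of_lt ?_ hS)
      split_ifs
      · rw [natDegree_X_pow]; nlinarith [Nat.zero_le (D * (l :: L).length)]
      · simp
  obtain ⟨i, hi⟩ := Function.ne_iff.mp (ha l)
  obtain ⟨j, hj⟩ := Function.ne_iff.mp hψ
  have h1 := congrFun (congrFun hco i) j
  rw [map_apply, hM, vecMulVec_apply] at h1
  have h2 : (if i = j then (X : F[X]) ^ (D * (l :: L).length) else 0).coeff
      (2 * D * (l :: L).length) = 0 := by
    split_ifs
    · rw [coeff_X_pow, if_neg]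
      have : 0 < D * (l :: L).length := Nat.mul_pos (Nat.pos_of_ne_zero hD) (by simp)
      nlinarith
    · simp
  rw [h2] at h1
  exact mul_ne_zero hi hj h1.symm

end Poly

end CfsgLib.Law
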