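import Mathlib
import Cfsg.Agent.Lib.Law.Core

/-!
Non-trivial words are not laws in `SL₂(F)` for large `F`, nor in large alternating groups;
embeddings used to transport this to classical groups.
-/

set_option autoImplicit false

namespace CfsgLib.Law

open Matrix
open scoped MatrixGroups

theorem IsLaw.twoWord {w : FreeGroup ℕ} {G : Type*} [Group G] (h : IsLaw w G) :
    IsLaw (twoWord w) G := h.subst _

/-- the two-by-two case of the polynomial ping-pong. -/
theorem not_isLaw_fin_two {F : Type*} [Field F] {G : Type*} [Group G]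
    (ρ : G →* Matrix (Fin 2) (Fin 2) F) (S : Finset F) (hS0 : ∀ t ∈ S, t ≠ 0)
    (hδ : ∀ t ∈ S, ∃ d : G, ρ d = !![t, 0; 0, t⁻¹])
    (g : G) (hg : ∀ i j, ρ g i j ≠ 0 ∧ ρ g⁻¹ i j ≠ 0)
    (w : FreeGroup ℕ) (hw : w ≠ 1) (hS : 2 * (twoWord w).toWord.length < S.card) :
    ¬ IsLaw w G := by
  classical
  intro h
  choose! δ hδ using hδ
  refine not_isLaw_two ρ 0 1 (by decide) 1 ![2, 0] ?_ ?_ ?_ S δ ?_ ?_ g (fun i j _ _ => hg i j)
    (twoWord w) (twoWord_ne_one hw) (by simpa using hS) h.twoWord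
  · intro j; fin_cases j <;> simp
  · intro j; fin_cases j <;> simp
  · intro j; fin_cases j <;> simp
  · intro t ht
    have := hS0 t ht
    rw [hδ t ht]
    ext i j; fin_cases i <;> fin_cases j <;> simp [pow_two, this]
  · intro t ht
    have h0 := hS0 t ht
    have h1 : ρ (δ t)⁻¹ = !![t⁻¹, 0; 0, t] := by
      have h2 : ρ (δ t)⁻¹ * ρ (δ t) = 1 := by rw [← map_mul]; simp
      have h3 : ρ (δ t) * !![t⁻¹, 0; 0, t] = 1 := by
        rw [hδ t ht]; ext i j; fin_cases i <;> fin_cases j <;> simp [h0]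
      calc ρ (δ t)⁻¹ = ρ (δ t)⁻¹ * (ρ (δ t) * !![t⁻¹, 0; 0, t]) := by rw [h3, mul_one]
        _ = _ := by rw [← mul_assoc, h2, one_mul]
    rw [h1]
    ext i j; fin_cases i <;> fin_cases j <;> simp [pow_two, h0]

theorem sl2_not_isLaw (w : FreeGroup ℕ) (hw : w ≠ 1) (F : Type*) [Field F] [Fintype F]
    (hF : 2 * (twoWord w).toWord.length + 3 ≤ Fintype.card F) : ¬ IsLaw w SL(2, F) := by
  classical
  obtain ⟨c, hc0, hc1⟩ : ∃ c : F, c ≠ 0 ∧ c ≠ -1 := by
    by_contra hcon
    push Not at hcon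
    have : (Finset.univ : Finset F) ⊆ {0, -1} := by
      intro x _
      by_cases hx : x = 0
      · simp [hx]
      · simp [hcon x hx]
    have h2 := Finset.card_le_card this
    have h3 : ({0, -1} : Finset F).card ≤ 2 := Finset.card_le_two
    rw [Finset.card_univ] at h2
    omega
  have hc2 : 1 + c ≠ 0 := fun h => hc1 (by linear_combination h)
  let g : SL(2, F) := ⟨!![1, 1; c, 1 + c], by simp [det_fin_two]⟩
  refine not_isLaw_fin_two (SpecialLinearGroup.coeMonoidHom) (Finset.univ.erase 0)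
    (fun t ht => (Finset.mem_erase.mp ht).1) (fun t ht => ?_) g ?_ w hw ?_
  · exact ⟨⟨!![t, 0; 0, t⁻¹], by simp [det_fin_two, (Finset.mem_erase.mp ht).1]⟩, rfl⟩
  · intro i j
    have h1 : SpecialLinearGroup.coeMonoidHom g = !![1, 1; c, 1 + c] := rfl
    have h2 : SpecialLinearGroup.coeMonoidHom g⁻¹ = adjugate !![1, 1; c, 1 + c] := rfl
    rw [h1, h2, adjugate_fin_two]
    fin_cases i <;> fin_cases j <;> simp [hc0, hc2]
  · rw [Finset.card_erase_of_mem (Finset.mem_univ _), Finset.card_univ]; omega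

theorem alt_of_finite (H : Type*) [Group H] [Finite H] (n : ℕ) (hn : 2 * Nat.card H ≤ n) :
    ∃ φ : H →* alternatingGroup (Fin n), Function.Injective φ := by
  classical
  haveI := Fintype.ofFinite H
  obtain ⟨ι⟩ : Nonempty (H ⊕ H ↪ Fin n) := by
    apply Function.Embedding.nonempty_of_card_le
    rw [Fintype.card_sum, Fintype.card_fin, ← Nat.card_eq_fintype_card]; omega
  let ψ : H →* Equiv.Perm (H ⊕ H) :=
    (Equiv.Perm.sumCongrHom H H).comp
      ((MulAction.toPermHom H H).prod (MulAction.toPermHom H H))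
  have hψ : Function.Injective ψ :=
    Equiv.Perm.sumCongrHom_injective.comp fun a b h =>
      MulAction.toPerm_injective (congrArg Prod.fst h)
  refine ⟨((Equiv.Perm.viaEmbeddingHom ι).comp ψ).codRestrict _ fun h => ?_, ?_⟩
  · rw [Equiv.Perm.mem_alternatingGroup, MonoidHom.comp_apply,
      Equiv.Perm.viaEmbeddingHom_apply, Equiv.Perm.viaEmbedding]
    convert (Equiv.Perm.sign_extendDomain (ψ h) _).trans _
    simp [ψ, Equiv.Perm.sign_sumCongr]
  · intro a b hab
    exact hψ (Equiv.Perm.viaEmbeddingHom_injective ι (congrArg Subtype.val hab))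

theorem alt_not_isLaw (w : FreeGroup ℕ) (hw : w ≠ 1) :
    ∃ N : ℕ, ∀ n, N ≤ n → ¬ IsLaw w (alternatingGroup (Fin n)) := by
  obtain ⟨p, hp, hpp⟩ := Nat.exists_infinite_primes (2 * (twoWord w).toWord.length + 3)
  haveI := Fact.mk hpp
  refine ⟨2 * Nat.card SL(2, ZMod p), fun n hn h => ?_⟩
  obtain ⟨φ, hφ⟩ := alt_of_finite SL(2, ZMod p) n hn
  exact sl2_not_isLaw w hw (ZMod p) (by rwa [ZMod.card]) (h.of_injective φ hφ)

theorem IsLaw.of_commutator {α H G : Type*} [Group H] [Group G] {w : FreeGroup α}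
    (h : IsLaw w (commutator G)) (φ : H →* G) (hφ : Function.Injective φ)
    (hH : commutator H = ⊤) : IsLaw w H := by
  refine h.of_injective (φ.codRestrict _ fun x => ?_) fun a b hab => hφ (congrArg Subtype.val hab)
  have : (commutator H).map φ ≤ commutator G := by
    rw [commutator_def, Subgroup.map_commutator, commutator_def]
    exact Subgroup.commutator_mono le_top le_top
  exact this ⟨x, hH ▸ Subgroup.mem_top x, rfl⟩

section Emb

variable {F : Type*} [Field F]

/-- block embedding of matrix monoids. -/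
def blockHom {ι μ κ : Type*} [Fintype ι] [DecidableEq ι] [Fintype μ] [DecidableEq μ]
    [Fintype κ] [DecidableEq κ] (e : ι ⊕ μ ≃ κ) : Matrix ι ι F →* Matrix κ κ F where
  toFun A := reindex e e (fromBlocks A 0 0 1)
  map_one' := by simp
  map_mul' A B := by
    simp only [reindex_apply, submatrix_mul_equiv, fromBlocks_multiply]; simp

section
variable {ι μ κ : Type*} [Fintype ι] [DecidableEq ι] [Fintype μ] [DecidableEq μ]
    [Fintype κ] [DecidableEq κ] (e : ι ⊕ μ ≃ κ)

theorem blockHom_apply (A : Matrix ι ι F) : blockHom e A = reindex e e (fromBlocks A 0 0 1) := rfl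

theorem blockHom_injective : Function.Injective (blockHom (F := F) e) := by
  intro A B h
  have := (reindex e e).injective h
  exact (fromBlocks_inj.mp this).1

theorem det_blockHom (A : Matrix ι ι F) : (blockHom e A).det = A.det := by
  rw [blockHom_apply, det_reindex_self, det_fromBlocks_zero₂₁]; simp

theorem blockHom_mulVec_inl (A : Matrix ι ι F) (v : κ → F) (i : ι) :
    (blockHom e A *ᵥ v) (e (Sum.inl i)) = (A *ᵥ fun j => v (e (Sum.inl j))) i := by
  rw [blockHom_apply, mulVec, dotProduct, ← e.sum_comp]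
  simp [mulVec, dotProduct]

theorem blockHom_mulVec_inr (A : Matrix ι ι F) (v : κ → F) (i : μ) :
    (blockHom e A *ᵥ v) (e (Sum.inr i)) = v (e (Sum.inr i)) := by
  rw [blockHom_apply, mulVec, dotProduct, ← e.sum_comp]
  simp [Matrix.one_apply]

/-- block embedding of special linear groups. -/
def blockSL : SpecialLinearGroup ι F →* SpecialLinearGroup κ F where
  toFun A := ⟨blockHom e A.1, by rw [det_blockHom, A.2]⟩
  map_one' := Subtype.ext (map_one (blockHom e))
  map_mul' A B := Subtype.ext (map_mul (blockHom e) A.1 B.1)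

theorem blockSL_injective : Function.Injective (blockSL (F := F) e) := fun _ _ h =>
  Subtype.ext (blockHom_injective e (congrArg Subtype.val h))

end

/-- even permutations as permutation matrices. -/
def altSL (ι : Type*) [Fintype ι] [DecidableEq ι] (F : Type*) [Field F] :
    alternatingGroup ι →* SpecialLinearGroup ι F where
  toFun σ := ⟨permMatrixHom σ.1, by
    have := Equiv.Perm.mem_alternatingGroup.mp σ.2
    change (Equiv.Perm.permMatrix F σ.1⁻¹).det = 1
    simp [det_permutation, this]⟩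
  map_one' := Subtype.ext (map_one permMatrixHom)
  map_mul' A B := Subtype.ext (map_mul permMatrixHom A.1 B.1)

theorem altSL_mulVec {ι : Type*} [Fintype ι] [DecidableEq ι] (σ : alternatingGroup ι) (v : ι → F) :
    (altSL ι F σ).1 *ᵥ v = v ∘ (σ.1⁻¹ : Equiv.Perm ι) := permMatrix_mulVec _

theorem altSL_injective (ι : Type*) [Fintype ι] [DecidableEq ι] :
    Function.Injective (altSL ι F) := by
  rw [injective_iff_map_eq_one]
  intro σ h
  have : ∀ i, (σ.1⁻¹ : Equiv.Perm ι) i = i := by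
    intro i
    have h1 := congrFun (altSL_mulVec (F := F) σ (Pi.single i 1)) i
    rw [h] at h1
    by_contra hne
    simp [Pi.single_apply] at h1
    exact hne h1
  have h2 : σ.1⁻¹ = 1 := Equiv.ext this
  exact Subtype.ext (inv_eq_one.mp h2)

/-- `A ↦ diag(A, A⁻ᵀ)`. -/
def hypHom (ι : Type*) [Fintype ι] [DecidableEq ι] (F : Type*) [Field F] :
    SpecialLinearGroup ι F →* Matrix (ι ⊕ ι) (ι ⊕ ι) F where
  toFun A := fromBlocks A.1 0 0 (A⁻¹).1ᵀ
  map_one' := by simp
  map_mul' A B := by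
    simp only [fromBlocks_multiply, _root_.mul_inv_rev, SpecialLinearGroup.coe_mul, transpose_mul]
    simp

theorem hypHom_injective (ι : Type*) [Fintype ι] [DecidableEq ι] :
    Function.Injective (hypHom ι F) := fun _ _ h => Subtype.ext (fromBlocks_inj.mp h).1

theorem hypHom_quad {ι : Type*} [Fintype ι] [DecidableEq ι] (A : SpecialLinearGroup ι F)
    (v : ι ⊕ ι → F) :
    ∑ i, (hypHom ι F A *ᵥ v) (.inl i) * (hypHom ι F A *ᵥ v) (.inr i) =
      ∑ i, v (.inl i) * v (.inr i) := by
  have h1 : hypHom ι F A = fromBlocks A.1 0 0 (A⁻¹).1ᵀ := rfl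
  rw [h1, fromBlocks_mulVec]
  simp only [Sum.elim_inl, Sum.elim_inr, zero_mulVec, add_zero, zero_add]
  change (A.1 *ᵥ (v ∘ Sum.inl)) ⬝ᵥ ((A⁻¹).1ᵀ *ᵥ (v ∘ Sum.inr)) = (v ∘ Sum.inl) ⬝ᵥ (v ∘ Sum.inr)
  have h2 : (A⁻¹).1 * A.1 = 1 := congrArg Subtype.val (inv_mul_cancel A)
  rw [dotProduct_mulVec, vecMul_transpose, mulVec_mulVec, h2, one_mulVec]

theorem hypHom_mem_sp {ι : Type*} [Fintype ι] [DecidableEq ι] (A : SpecialLinearGroup ι F) :
    hypHom ι F A ∈ symplecticGroup ι F := by
  have h1 : hypHom ι F A = fromBlocks A.1 0 0 (A⁻¹).1ᵀ := rfl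
  have h2 : A.1 * (A⁻¹).1 = 1 := congrArg Subtype.val (mul_inv_cancel A)
  have h3 : (A⁻¹).1ᵀ * A.1ᵀ = 1 := by rw [← transpose_mul, h2, transpose_one]
  rw [SymplecticGroup.mem_iff, h1, J, fromBlocks_transpose, fromBlocks_multiply,
    fromBlocks_multiply]
  simp only [Matrix.mul_zero, Matrix.zero_mul, add_zero, zero_add, transpose_zero,
    transpose_transpose, Matrix.mul_neg, Matrix.mul_one, Matrix.neg_mul, h2, h3, neg_zero]

end Emb

end CfsgLib.Law
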